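import Cfsg.Agent.FGS4.SchurSylow.TwoM23
import Mathlib.Data.ZMod.Basic
import Mathlib.Data.Nat.Bitwise

/-!
# Linear certificates for extensions by an elementary abelian module of rank eleven

Lifts of permutations satisfy relations up to unknown module elements; closed loops of rewriting
give linear equations between their coordinates, and a certificate solves them for new lifts.
-/

set_option autoImplicit false
set_option linter.unusedSectionVars false

namespace Cfsg.Agent.FGS4.ModExt

/-- Coordinates in the module. -/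
abbrev X : Type := Fin 11 → ZMod 2

theorem add_self (a : ZMod 2) : a + a = 0 := CharTwo.add_self_eq_zero a

theorem X_add_self (x : X) : x + x = 0 := funext fun _ => add_self _

variable (β : ℕ → ZMod 2) (nb : ℕ)

/-- The value of a linear form given by a mask. -/
def ev (m : ℕ) : ZMod 2 := ∑ i ∈ Finset.range nb, if m.testBit i then β i else 0

theorem ev_zero : ev β nb 0 = 0 := by simp [ev]

theorem ev_xor (a b : ℕ) : ev β nb (a ^^^ b) = ev β nb a + ev β nb b := by
  simp only [ev, ← Finset.sum_add_distrib, Nat.testBit_xor]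
  refine Finset.sum_congr rfl fun i _ => ?_
  cases a.testBit i <;> cases b.testBit i <;> simp [add_self]

theorem ev_pow {i : ℕ} (hi : i < nb) : ev β nb (2 ^ i) = β i := by
  simp [ev, Nat.testBit_two_pow, hi]

/-- The sum of selected forms. -/
def xorSel : List (ℕ × ℕ) → ℕ → ℕ
  | [], _ => 0
  | x :: xs, s => (if s % 2 == 1 then x.1 else 0) ^^^ xorSel xs (s / 2)

theorem ev_xorSel : ∀ (l : List (ℕ × ℕ)) (s : ℕ), (∀ x ∈ l, ev β nb x.1 = 0) →
    ev β nb (xorSel l s) = 0
  | [], s, _ => by simp [xorSel, ev_zero]
  | x :: xs, s, h => by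
    rw [xorSel, ev_xor, ev_xorSel xs _ fun y hy => h y (List.mem_cons_of_mem _ hy), add_zero]
    split
    · exact h x (List.mem_cons_self ..)
    · exact ev_zero β nb

/-- The coordinates of a symbolic vector. -/
def vsem (v : List ℕ) : X := fun k => ev β nb (v.getD k.val 0)

/-- Sum of symbolic vectors. -/
def vxor (a b : List ℕ) : List ℕ := (List.range 11).map fun k => a.getD k 0 ^^^ b.getD k 0

/-- The zero vector. -/
def vzero : List ℕ := (List.range 11).map fun _ => 0

/-- The unknown vector of a rule. -/
def vunit (r : ℕ) : List ℕ := (List.range 11).map fun k => 2 ^ (11 * r + k)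

theorem getD_map_range (f : ℕ → ℕ) (k : Fin 11) :
    ((List.range 11).map f).getD k.val 0 = f k.val := by
  simp [List.getD_eq_getElem?_getD, List.getElem?_range k.isLt]

theorem vsem_zero : vsem β nb vzero = 0 :=
  funext fun k => by rw [vsem, vzero, getD_map_range]; exact ev_zero β nb

theorem vsem_vxor (a b : List ℕ) : vsem β nb (vxor a b) = vsem β nb a + vsem β nb b :=
  funext fun k => by rw [vsem, vxor, getD_map_range, ev_xor]; rfl

theorem vsem_vunit {r : ℕ} (hr : 11 * r + 11 ≤ nb) (k : Fin 11) :
    vsem β nb (vunit r) k = β (11 * r + k.val) := by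
  rw [vsem, vunit, getD_map_range, ev_pow]
  have := k.isLt
  omega

/-- A row of a matrix applied to a symbolic vector. -/
def rowApply (row : ℕ) (v : List ℕ) : ℕ → ℕ
  | 0 => 0
  | n + 1 => (if row.testBit n then v.getD n 0 else 0) ^^^ rowApply row v n

/-- A matrix applied to a symbolic vector. -/
def mapply (M : List ℕ) (v : List ℕ) : List ℕ :=
  (List.range 11).map fun k => rowApply (M.getD k 0) v 11

/-- A matrix applied to coordinates. -/
def mulM (M : List ℕ) (x : X) : X := fun k =>
  ∑ j : Fin 11, if (M.getD k.val 0).testBit j.val then x j else 0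

theorem ev_rowApply (row : ℕ) (v : List ℕ) : ∀ n, ev β nb (rowApply row v n) =
    ∑ j ∈ Finset.range n, if row.testBit j then ev β nb (v.getD j 0) else 0
  | 0 => by simp [rowApply, ev_zero]
  | n + 1 => by
    rw [rowApply, ev_xor, ev_rowApply row v n, Finset.sum_range_succ, add_comm]
    congr 1
    split
    · rfl
    · exact ev_zero β nb

theorem vsem_mapply (M v : List ℕ) : vsem β nb (mapply M v) = mulM M (vsem β nb v) :=
  funext fun k => by
    rw [vsem, mapply, getD_map_range, ev_rowApply, mulM,
      ← Fin.sum_univ_eq_sum_range (fun j => if (M.getD k.val 0).testBit j then ev β nb (v.getD j 0) else 0)]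
    rfl

/-- The action of a word on a symbolic vector. -/
def actW (mats : List (List ℕ)) : List ℕ → List ℕ → List ℕ
  | [], v => v
  | l :: w, v => mapply (mats.getD l []) (actW mats w v)

/-- One rewriting step at a position. -/
def step (mats : List (List ℕ)) (rules : List (List ℕ × List ℕ)) (st : List ℕ × List ℕ)
    (s : ℕ × ℕ × Bool) : Option (List ℕ × List ℕ) :=
  match rules[s.2.1]? with
  | none => none
  | some (a, b) =>
    let l := if s.2.2 then b else a
    let r := if s.2.2 then a else b
    let pre := st.2.take s.1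
    let rest := st.2.drop s.1
    if pre.all (fun x => decide (x < mats.length)) && (rest.take l.length == l) then
      some (vxor st.1 (actW mats pre (vunit s.2.1)), pre ++ r ++ rest.drop l.length)
    else none

/-- A sequence of steps. -/
def run (mats : List (List ℕ)) (rules : List (List ℕ × List ℕ)) :
    List ℕ × List ℕ → List (ℕ × ℕ × Bool) → Option (List ℕ × List ℕ)
  | st, [] => some st
  | st, s :: ss => match step mats rules st s with
    | none => none
    | some st' => run mats rules st' ss

/-- A closed loop: a word and two ways of rewriting it. -/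
abbrev Loop : Type := List ℕ × List (ℕ × ℕ × Bool) × List (ℕ × ℕ × Bool)

/-- The forms of a loop, checked. -/
def loopOK (mats : List (List ℕ)) (rules : List (List ℕ × List ℕ)) (L : Loop)
    (forms : List ℕ) : Bool :=
  match run mats rules (vzero, L.1) L.2.1, run mats rules (vzero, L.1) L.2.2 with
  | some (a, w), some (b, w') => w == w' && vxor a b == forms
  | _, _ => false

/-- The change of a word under a change of the first seven lifts. -/
def gauge (mats : List (List ℕ)) (R : List (List ℕ)) : List ℕ → List ℕ
  | [] => vzero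
  | x :: w => vxor (R.getD x vzero) (mapply (mats.getD x []) (gauge mats R w))

/-- A certificate. -/
structure Cert where
  /-- matrices of the letters -/
  mats : List (List ℕ)
  /-- relations between the letters -/
  rules : List (List ℕ × List ℕ)
  /-- loops with their forms -/
  loops : List (Loop × List ℕ)
  /-- the change of lifts -/
  R : List (List ℕ)
  /-- an extra form assumed to vanish -/
  lam : ℕ
  /-- the forms used in the elimination, each with the index of a loop giving it -/
  basis : List (ℕ × ℕ)
  /-- the selection for each coordinate of each of the first rules -/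
  sels : List (List ℕ)

/-- The coordinates used in the elimination are the forms of the loops or the extra form. -/
def Cert.basisOK (C : Cert) : Bool :=
  C.basis.all fun x => x.1 == C.lam || match C.loops[x.2]? with
    | none => false
    | some L => L.2.contains x.1

/-- The loops are checked. -/
def Cert.loopsOK (C : Cert) : Bool := C.loops.all fun L => loopOK C.mats C.rules L.1 L.2

/-- The letters of the first 28 rules are among the first seven, of triangular shape. -/
def Cert.shapeOK (C : Cert) : Bool :=
  ((List.range 28).all fun r => match C.rules[r]? with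
    | none => false
    | some (a, b) => (a ++ b).all fun x => decide (x < 7)) &&
  ((List.range 7).all fun i => ((List.range 28).any fun r => C.rules[r]? == some ([i, i], [])) &&
    (List.range 7).all fun j => decide (j ≤ i) || (List.range 28).any fun r =>
      match C.rules[r]? with
      | none => false
      | some (a, b) => a == [j, i] && b.head? == some i && b.tail.all fun x => decide (i < x))

/-- The change of lifts removes all the relation vectors. -/
def Cert.targetOK (C : Cert) : Bool :=
  decide (7 ≤ C.mats.length) && (List.range 28).all fun r => match C.rules[r]? with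
    | none => false
    | some (a, b) =>
      let t := vxor (vxor (gauge C.mats C.R a) (gauge C.mats C.R b)) (vunit r)
      (List.range 11).all fun k => t.getD k 0 == xorSel C.basis ((C.sels.getD r []).getD k 0)

/-- An extension of a group with coordinates on the kernel. -/
structure Data (E : Type*) [Group E] (G : Type*) [Group G] (A : G → X → X) where
  /-- the projection -/
  π : E →* G
  /-- the coordinates -/
  co : E → X
  co_mul : ∀ a b : E, π a = 1 → π b = 1 → co (a * b) = co a + co b
  co_inj : ∀ a : E, π a = 1 → co a = 0 → a = 1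
  co_surj : ∀ x : X, ∃ a : E, π a = 1 ∧ co a = x
  surj : Function.Surjective π
  act : ∀ g a : E, π a = 1 → co (g * a * g⁻¹) = A (π g) (co a)

variable {E : Type*} [Group E] {G : Type*} [Group G] {A : G → X → X}

theorem Data.co_one (D : Data E G A) : D.co 1 = 0 := by
  have h := D.co_mul 1 1 (map_one _) (map_one _)
  rw [mul_one] at h
  exact (add_eq_left.1 h.symm)

theorem Data.co_inv (D : Data E G A) {a : E} (ha : D.π a = 1) : D.co a⁻¹ = D.co a := by
  have h := D.co_mul a⁻¹ a (by rw [map_inv, ha, inv_one]) ha
  rw [inv_mul_cancel, D.co_one] at h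
  calc D.co a⁻¹ = D.co a⁻¹ + (D.co a + D.co a) := by rw [X_add_self, add_zero]
    _ = (D.co a⁻¹ + D.co a) + D.co a := by rw [add_assoc]
    _ = D.co a := by rw [← h, zero_add]

/-- The product of a word. -/
def wp {M : Type*} [Monoid M] (L : ℕ → M) (w : List ℕ) : M := (w.map L).prod

theorem wp_append {M : Type*} [Monoid M] (L : ℕ → M) (a b : List ℕ) :
    wp L (a ++ b) = wp L a * wp L b := by simp [wp, List.map_append]

/-- The coordinates of the relation vectors. -/
def Data.beta (D : Data E G A) (L : ℕ → E) (rules : List (List ℕ × List ℕ)) (i : ℕ) : ZMod 2 :=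
  D.co (wp L (rules.getD (i / 11) ([], [])).1 * (wp L (rules.getD (i / 11) ([], [])).2)⁻¹)
    ⟨i % 11, Nat.mod_lt _ (by norm_num)⟩

variable (D : Data E G A) (L : ℕ → E) (C : Cert) (γ : ℕ → G)

local notation "bet" => D.beta L C.rules
local notation "nbit" => 11 * C.rules.length

/-- The hypotheses linking a certificate to the group. -/
structure Fits (C : Cert) (γ : ℕ → G) (A : G → X → X) : Prop where
  mat : ∀ l < C.mats.length, A (γ l) = mulM (C.mats.getD l [])
  rel : ∀ ab ∈ C.rules, wp γ ab.1 = wp γ ab.2

variable {D L C γ}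

theorem pi_wp (hL : ∀ l, D.π (L l) = γ l) (w : List ℕ) : D.π (wp L w) = wp γ w := by
  rw [wp, map_list_prod, List.map_map]
  exact congrArg List.prod (List.map_congr_left fun l _ => hL l)

theorem co_actW (hF : Fits C γ A) (hL : ∀ l, D.π (L l) = γ l) :
    ∀ (w : List ℕ), (∀ x ∈ w, x < C.mats.length) → ∀ (a : E) (v : List ℕ), D.π a = 1 →
      D.co a = vsem bet nbit v →
      D.co (wp L w * a * (wp L w)⁻¹) = vsem bet nbit (actW C.mats w v)
  | [], _, a, v, _, hv => by simpa [wp, actW] using hv
  | l :: w, hw, a, v, ha, hv => by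
    have h1 : D.π (wp L w * a * (wp L w)⁻¹) = 1 := by simp [ha]
    have h2 := co_actW hF hL w (fun x hx => hw x (List.mem_cons_of_mem _ hx)) a v ha hv
    have e : wp L (l :: w) * a * (wp L (l :: w))⁻¹ =
        L l * (wp L w * a * (wp L w)⁻¹) * (L l)⁻¹ := by
      simp only [wp, List.map_cons, List.prod_cons, mul_inv_rev, mul_assoc]
    rw [e, D.act _ _ h1, hL, hF.mat l (hw l (List.mem_cons_self ..)), h2, actW, vsem_mapply]

theorem co_rule (hF : Fits C γ A) (hL : ∀ l, D.π (L l) = γ l) {r : ℕ} {a b : List ℕ}
    (hr : C.rules[r]? = some (a, b)) :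
    D.π (wp L a * (wp L b)⁻¹) = 1 ∧
      D.co (wp L a * (wp L b)⁻¹) = vsem bet nbit (vunit r) := by
  obtain ⟨hlt, he⟩ := List.getElem?_eq_some_iff.1 hr
  refine ⟨?_, funext fun k => ?_⟩
  · rw [map_mul, map_inv, pi_wp hL, pi_wp hL, hF.rel (a, b) (he ▸ List.getElem_mem hlt),
      mul_inv_cancel]
  · rw [vsem_vunit _ _ (by omega), Data.beta]
    have hk := k.isLt
    have hd : (11 * r + k.val) / 11 = r := by omega
    have hg : C.rules.getD ((11 * r + k.val) / 11) ([], []) = (a, b) := by
      rw [hd, List.getD_eq_getElem?_getD, hr]; rfl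
    rw [hg]
    congr 1
    ext
    simp only
    omega

/-- The invariant of rewriting. -/
def Inv (D : Data E G A) (L : ℕ → E) (C : Cert) (w0 : List ℕ) (st : List ℕ × List ℕ) : Prop :=
  ∃ n : E, D.π n = 1 ∧ wp L w0 = n * wp L st.2 ∧
    D.co n = vsem (D.beta L C.rules) (11 * C.rules.length) st.1

theorem step_inv (hF : Fits C γ A) (hL : ∀ l, D.π (L l) = γ l) {w0 : List ℕ}
    {st st' : List ℕ × List ℕ} {s : ℕ × ℕ × Bool} (hst : Inv D L C w0 st)
    (h : step C.mats C.rules st s = some st') : Inv D L C w0 st' := by
  unfold step at h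
  split at h
  · exact absurd h (by simp)
  · rename_i a b hr
    simp only [Option.ite_none_right_eq_some, Option.some.injEq, Bool.and_eq_true, List.all_eq_true,
      decide_eq_true_eq, beq_iff_eq] at h
    obtain ⟨⟨hpre, htake⟩, rfl⟩ := h
    obtain ⟨n, hn, hw, hco⟩ := hst
    obtain ⟨hc, hcc⟩ := co_rule hF hL hr
    set l := if s.2.2 then b else a
    set r := if s.2.2 then a else b
    obtain ⟨c, hc1, hc2, hlr⟩ : ∃ c : E, D.π c = 1 ∧ D.co c = vsem bet nbit (vunit s.2.1) ∧
        wp L l = c * wp L r := by
      rcases hs : s.2.2 with _ | _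
      · refine ⟨_, hc, hcc, ?_⟩
        simp only [l, r, hs, Bool.false_eq_true, if_false]
        group
      · refine ⟨_, show D.π (wp L a * (wp L b)⁻¹)⁻¹ = 1 by rw [map_inv, hc, inv_one],
          (D.co_inv hc).trans hcc, ?_⟩
        simp only [l, r, hs, if_true]
        group
    have hsplit : st.2 = st.2.take s.1 ++ l ++ (st.2.drop s.1).drop l.length := by
      conv_lhs => rw [← List.take_append_drop s.1 st.2, ← List.take_append_drop l.length (st.2.drop s.1), htake]
      rw [List.append_assoc]
    set p := wp L (st.2.take s.1) with hp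
    have hpc : D.π (p * c * p⁻¹) = 1 := by simp [hc1]
    refine ⟨n * (p * c * p⁻¹), by rw [map_mul, hn, hpc, mul_one], ?_, ?_⟩
    · rw [hw]
      conv_lhs => rw [hsplit]
      simp only [wp_append, hlr, ← hp]
      group
    · rw [D.co_mul _ _ hn hpc, hco, co_actW hF hL _ hpre c _ hc1 hc2, vsem_vxor]

theorem run_inv (hF : Fits C γ A) (hL : ∀ l, D.π (L l) = γ l) {w0 : List ℕ} :
    ∀ (ss : List (ℕ × ℕ × Bool)) (st st' : List ℕ × List ℕ), Inv D L C w0 st →
      run C.mats C.rules st ss = some st' → Inv D L C w0 st'
  | [], st, st', h, e => by simp only [run, Option.some.injEq] at e; exact e ▸ h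
  | s :: ss, st, st', h, e => by
    rw [run] at e
    split at e
    · exact absurd e (by simp)
    · rename_i st1 h1
      exact run_inv hF hL ss st1 st' (step_inv hF hL h h1) e

theorem loop_zero (hF : Fits C γ A) (hL : ∀ l, D.π (L l) = γ l) {P : Loop} {forms : List ℕ}
    (h : loopOK C.mats C.rules P forms = true) : vsem bet nbit forms = 0 := by
  unfold loopOK at h
  split at h
  · rename_i a w b w' ha hb
    simp only [Bool.and_eq_true, beq_iff_eq] at h
    obtain ⟨rfl, rfl⟩ := h
    have h0 : Inv D L C P.1 (vzero, P.1) :=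
      ⟨1, map_one _, by simp, by rw [vsem_zero, D.co_one]⟩
    obtain ⟨m, -, hm, hma⟩ := run_inv hF hL _ _ _ h0 ha
    obtain ⟨m', -, hm', hmb⟩ := run_inv hF hL _ _ _ h0 hb
    have hmm : m = m' := mul_right_cancel (hm.symm.trans hm')
    rw [vsem_vxor, ← hma, ← hmb, hmm, X_add_self]
  · exact absurd h (by simp)

theorem vsem_forms_mem {v : List ℕ} (h : vsem bet nbit v = 0) (hlen : v.length = 11) {x : ℕ}
    (hx : x ∈ v) : ev bet nbit x = 0 := by
  obtain ⟨k, hk, rfl⟩ := List.getElem_of_mem hx
  have := congrFun h ⟨k, hlen ▸ hk⟩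
  simpa [vsem, List.getD_eq_getElem?_getD, List.getElem?_eq_getElem hk] using this

theorem basis_zero (hF : Fits C γ A) (hL : ∀ l, D.π (L l) = γ l) (h1 : C.loopsOK = true)
    (h2 : C.basisOK = true) (hlam : ev bet nbit C.lam = 0) :
    ∀ x ∈ C.basis, ev bet nbit x.1 = 0 := by
  intro x hx
  simp only [Cert.basisOK, List.all_eq_true, Bool.or_eq_true, beq_iff_eq] at h2
  rcases h2 x hx with e | hm
  · rw [e]; exact hlam
  · split at hm
    · exact absurd hm (by simp)
    rename_i P hP
    have hxP : x.1 ∈ P.2 := List.contains_iff_mem.1 hm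
    have hl := List.all_eq_true.1 h1 P (List.mem_of_getElem? hP)
    refine vsem_forms_mem (loop_zero hF hL hl) ?_ hxP
    unfold loopOK at hl
    split at hl
    · simp only [Bool.and_eq_true, beq_iff_eq] at hl
      rw [← hl.2]
      simp [vxor]
    · exact absurd hl (by simp)

theorem co_gauge (hF : Fits C γ A) (hL : ∀ l, D.π (L l) = γ l) (N : ℕ → E)
    (hN : ∀ x, D.π (N x) = 1) (hNco : ∀ x, D.co (N x) = vsem bet nbit (C.R.getD x vzero)) :
    ∀ w : List ℕ, (∀ x ∈ w, x < C.mats.length) →
      ∃ n : E, D.π n = 1 ∧ D.co n = vsem bet nbit (gauge C.mats C.R w) ∧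
        wp (fun x => N x * L x) w = n * wp L w
  | [], _ => ⟨1, map_one _, by rw [gauge, vsem_zero, D.co_one], by simp [wp]⟩
  | x :: w, hw => by
    obtain ⟨n, hn, hnc, hnw⟩ := co_gauge hF hL N hN hNco w fun y hy => hw y (List.mem_cons_of_mem _ hy)
    have h1 : D.π (L x * n * (L x)⁻¹) = 1 := by simp [hn]
    refine ⟨N x * (L x * n * (L x)⁻¹), by rw [map_mul, hN, h1, mul_one], ?_, ?_⟩
    · rw [D.co_mul _ _ (hN x) h1, hNco, D.act _ _ hn, hL, hF.mat x (hw x (List.mem_cons_self ..)),
        hnc, gauge, vsem_vxor, vsem_mapply]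
    · simp only [wp, List.map_cons, List.prod_cons] at hnw ⊢
      rw [hnw]
      group

/-- With the extra form zero, some lifts of the first seven letters generate a group of order at
most 128. -/
theorem exists_lifts [Finite E] (hF : Fits C γ A) (hL : ∀ l, D.π (L l) = γ l)
    (h1 : C.loopsOK = true) (h2 : C.basisOK = true) (h3 : C.shapeOK = true)
    (h4 : C.targetOK = true) (hlam : ev bet nbit C.lam = 0) :
    ∃ L' : ℕ → E, (∀ l, D.π (L' l) = γ l) ∧
      Nat.card (Subgroup.closure (L' '' {l | l < 7})) ≤ 128 := by
  classical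
  choose f hf1 hf2 using D.co_surj
  let N : ℕ → E := fun x => f (vsem bet nbit (C.R.getD x vzero))
  have hN : ∀ x, D.π (N x) = 1 := fun x => hf1 _
  let L' : ℕ → E := fun x => N x * L x
  have hL' : ∀ l, D.π (L' l) = γ l := fun l => by simp only [L', map_mul, hN, hL, one_mul]
  refine ⟨L', hL', ?_⟩
  simp only [Cert.targetOK, Bool.and_eq_true, decide_eq_true_eq, List.all_eq_true,
    List.mem_range] at h4
  obtain ⟨h7, h4⟩ := h4
  simp only [Cert.shapeOK, Bool.and_eq_true, List.all_eq_true, List.any_eq_true, Bool.or_eq_true,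
    decide_eq_true_eq, List.mem_range, beq_iff_eq] at h3
  obtain ⟨h3a, h3b⟩ := h3
  have hbas := basis_zero hF hL h1 h2 hlam
  have hrel : ∀ r < 28, ∀ a b, C.rules[r]? = some (a, b) → wp L' a = wp L' b := by
    intro r hr a b hab
    have hlet := h3a r hr
    rw [hab] at hlet
    simp only [List.all_eq_true, decide_eq_true_eq, List.mem_append] at hlet
    have hsel := h4 r hr
    rw [hab] at hsel
    simp only [List.all_eq_true, List.mem_range, beq_iff_eq] at hsel
    obtain ⟨na, hna, hnac, hnaw⟩ := co_gauge hF hL N hN (fun x => hf2 _) a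
      fun x hx => lt_of_lt_of_le (hlet x (Or.inl hx)) h7
    obtain ⟨nb', hnb, hnbc, hnbw⟩ := co_gauge hF hL N hN (fun x => hf2 _) b
      fun x hx => lt_of_lt_of_le (hlet x (Or.inr hx)) h7
    obtain ⟨hc, hcc⟩ := co_rule hF hL hab
    set c := wp L a * (wp L b)⁻¹ with hcdef
    have he : wp L' a * (wp L' b)⁻¹ = na * c * nb'⁻¹ := by
      simp only [L', hnaw, hnbw, hcdef]
      group
    refine mul_inv_eq_one.1 (he ▸ D.co_inj _ (by simp [hna, hc, hnb]) ?_)
    rw [D.co_mul _ _ (by simp [hna, hc]) (by simp [hnb]), D.co_mul _ _ hna hc, D.co_inv hnb,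
      hnac, hnbc, hcc, add_right_comm, ← vsem_vxor, ← vsem_vxor]
    funext k
    rw [vsem, hsel k.val k.isLt, ev_xorSel _ _ _ _ hbas]
    rfl
  have hS : ∀ i < 7, L' i * L' i = 1 := fun i hi => by
    obtain ⟨r, hr, he⟩ := (h3b i hi).1
    simpa [wp] using hrel r hr _ _ he
  have hmain : ∀ d ≤ 7, Nat.card (Subgroup.closure (L' '' {l | 7 - d ≤ l ∧ l < 7})) ≤ 2 ^ d := by
    intro d
    induction d with
    | zero =>
      intro _
      rw [show {l : ℕ | 7 - 0 ≤ l ∧ l < 7} = ∅ by ext; simp, Set.image_empty,
        Subgroup.closure_empty, Subgroup.card_bot, pow_zero]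
    | succ d ih =>
      intro hd
      set i := 7 - (d + 1) with hi
      have hset : L' '' {l : ℕ | i ≤ l ∧ l < 7} =
          insert (L' i) (L' '' {l : ℕ | 7 - d ≤ l ∧ l < 7}) := by
        rw [← Set.image_insert_eq]
        congr 1
        ext l
        simp only [Set.mem_ofPred_eq, Set.mem_insert_iff]
        omega
      rw [hset, pow_succ']
      refine (SchurSylow.card_closure_insert_le (hS i (by omega)) ?_).trans
        (Nat.mul_le_mul_left 2 (ih (by omega)))
      rintro _ ⟨j, ⟨hj1, hj2⟩, rfl⟩
      obtain h | ⟨r, hr, he⟩ := (h3b i (by omega)).2 j hj2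
      · omega
      split at he
      · exact absurd he (by simp)
      rename_i a b hab
      simp only [Bool.and_eq_true, beq_iff_eq, List.all_eq_true, decide_eq_true_eq] at he
      obtain ⟨⟨rfl, hhead⟩, htail⟩ := he
      have hb : b = i :: b.tail := (List.cons_head?_tail hhead).symm
      have h := hrel r hr _ _ hab
      rw [hb] at h
      simp only [wp, List.map_cons, List.map_nil, List.prod_cons, List.prod_nil, mul_one] at h
      have hval : L' i * L' j * L' i = wp L' b.tail := by
        rw [mul_assoc, h, ← mul_assoc, hS i (by omega), one_mul]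
        rfl
      rw [hval]
      refine Subgroup.list_prod_mem _ fun y hy => ?_
      obtain ⟨x, hx, rfl⟩ := List.mem_map.1 hy
      have hlt := h3a r hr
      rw [hab] at hlt
      simp only [List.all_eq_true, decide_eq_true_eq, List.mem_append] at hlt
      exact Subgroup.subset_closure ⟨x, ⟨by have := htail x hx; omega,
        hlt x (Or.inr (List.mem_of_mem_tail hx))⟩, rfl⟩
  have := hmain 7 le_rfl
  simpa using this

end Cfsg.Agent.FGS4.ModExt
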