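import Cfsg.Agent.FGS4.ModExt.Split
import Cfsg.Agent.FGS4.ModExt.CodeData
import Cfsg.Agent.FGS4.ModExt.CoData
import Cfsg.Agent.S2037

/-!
# Extensions of `M₂₃` by the code module and by the cocode module
-/

set_option autoImplicit false
set_option maxRecDepth 100000

namespace Cfsg.Agent.FGS4.ModExt

open Cfsg Cfsg.Agent.Golay

universe u w

/-- A code of an element of `M₂₃`. -/
def okCode (c : ℕ) : Bool := isAut c && app c 23 == 23

theorem permOf_mem_M23 {c : ℕ} (h : okCode c = true) : permOf c ∈ Cfsg.Spor.M23 := by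
  simp only [okCode, Bool.and_eq_true, beq_iff_eq] at h
  exact ⟨permOf_mem_M24 h.1, idx_injective (by
    rw [Equiv.Perm.smul_def, idx_permOf (permOK_of_isAut h.1), show idx none = 23 from rfl, h.2])⟩

/-- The element of a code. -/
noncomputable def elt (c : ℕ) : Cfsg.Spor.M23 :=
  if h : okCode c = true then ⟨permOf c, permOf_mem_M23 h⟩ else 1

/-- The letters. -/
noncomputable def gam (ls : List ℕ) (l : ℕ) : Cfsg.Spor.M23 := elt (ls.getD l 0)

/-- The image of an index under a word in the letters. -/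
def evalL (ls w : List ℕ) (i : ℕ) : ℕ := w.foldr (fun x j => app (ls.getD x 0) j) i

/-- The letters are elements satisfying the rules. -/
def lettersOK (ls : List ℕ) (C : Cert) : Bool :=
  ls.all okCode && C.mats.length == ls.length && C.rules.all fun r =>
    ((r.1 ++ r.2).all fun x => decide (x < ls.length)) &&
      (List.range 24).all fun i => evalL ls r.1 i == evalL ls r.2 i

theorem elt_val {c : ℕ} (h : okCode c = true) : (elt c : Equiv.Perm GolayPt) = permOf c := by
  rw [elt, dif_pos h]

theorem idx_wp {ls : List ℕ} (hls : ∀ c ∈ ls, okCode c = true) :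
    ∀ w : List ℕ, (∀ x ∈ w, x < ls.length) → ∀ p,
      idx (((wp (gam ls) w : Cfsg.Spor.M23) : Equiv.Perm GolayPt) p) = evalL ls w (idx p)
  | [], _, p => rfl
  | x :: w, hw, p => by
    have hx : x < ls.length := hw x (List.mem_cons_self ..)
    have hc : okCode (ls.getD x 0) = true :=
      hls _ (List.getD_eq_getElem ls 0 hx ▸ List.getElem_mem hx)
    have ih := idx_wp hls w (fun y hy => hw y (List.mem_cons_of_mem _ hy)) p
    simp only [wp, List.map_cons, List.prod_cons] at ih ⊢
    rw [Subgroup.coe_mul, Equiv.Perm.mul_apply, gam, elt_val hc,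
      idx_permOf (by simp only [okCode, Bool.and_eq_true] at hc; exact permOK_of_isAut hc.1), ih]
    rfl

theorem gam_rel {ls : List ℕ} {C : Cert} (h : lettersOK ls C = true) :
    ∀ ab ∈ C.rules, wp (gam ls) ab.1 = wp (gam ls) ab.2 := by
  simp only [lettersOK, Bool.and_eq_true, List.all_eq_true, decide_eq_true_eq, beq_iff_eq,
    List.mem_range, List.mem_append] at h
  intro ab hab
  obtain ⟨hlt, he⟩ := h.2 ab hab
  refine Subtype.ext (Equiv.ext fun p => idx_injective ?_)
  rw [idx_wp h.1.1 _ (fun x hx => hlt x (Or.inl hx)), idx_wp h.1.1 _ (fun x hx => hlt x (Or.inr hx))]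
  exact he _ (idx_lt p)

theorem gam_ok {ls : List ℕ} {C : Cert} (h : lettersOK ls C = true) {l : ℕ}
    (hl : l < C.mats.length) : okCode (ls.getD l 0) = true := by
  simp only [lettersOK, Bool.and_eq_true, List.all_eq_true, beq_iff_eq] at h
  rw [h.1.2] at hl
  exact h.1.1 _ (List.getD_eq_getElem ls 0 hl ▸ List.getElem_mem hl)

theorem gam_big {ls : List ℕ} (h : ls.take 7 =
    [S2037.c0, S2037.c1, S2037.c2, S2037.c3, S2037.c4, S2037.c5, S2037.c6]) :
    128 ≤ Nat.card (Subgroup.closure (gam ls '' {l | l < 7})) := by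
  refine S2037.gens_card.trans (Subgroup.card_le_of_le (Subgroup.closure_mono ?_))
  have key : ∀ i < 7, gam ls i = elt (([S2037.c0, S2037.c1, S2037.c2, S2037.c3, S2037.c4,
      S2037.c5, S2037.c6] : List ℕ).getD i 0) := by
    intro i hi
    rw [← h, gam, List.getD_eq_getElem?_getD, List.getD_eq_getElem?_getD, List.getElem?_take,
      if_pos hi]
  have el_eq : ∀ (c : ℕ) (hc : c ∈ S2037.allCodes), S2037.el c hc = elt c := by
    intro c hc
    have hk : okCode c = true := List.all_eq_true.1 S2037.codes_ok c hc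
    exact Subtype.ext (elt_val hk).symm
  intro x hx
  simp only [Set.mem_insert_iff, Set.mem_singleton_iff] at hx
  rcases hx with rfl | rfl | rfl | rfl | rfl | rfl | rfl
  · exact ⟨0, by simp, (key 0 (by norm_num)).trans (el_eq _ _).symm⟩
  · exact ⟨1, by simp, (key 1 (by norm_num)).trans (el_eq _ _).symm⟩
  · exact ⟨2, by simp, (key 2 (by norm_num)).trans (el_eq _ _).symm⟩
  · exact ⟨3, by simp, (key 3 (by norm_num)).trans (el_eq _ _).symm⟩
  · exact ⟨4, by simp, (key 4 (by norm_num)).trans (el_eq _ _).symm⟩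
  · exact ⟨5, by simp, (key 5 (by norm_num)).trans (el_eq _ _).symm⟩
  · exact ⟨6, by simp, (key 6 (by norm_num)).trans (el_eq _ _).symm⟩

theorem M23_odd (H : Subgroup Cfsg.Spor.M23) (hH : Nat.card H = 128) : Odd H.index := by
  have h := H.card_mul_index
  rw [hH, spor_M23_card] at h
  exact ⟨39847, by omega⟩

/-! ### The code words vanishing at the extra point -/

/-- The pivot of a basis word. -/
def piv (k : ℕ) : GolayPt := pt (12 + k)

/-- The basis words. -/
def bw (k : ℕ) : GolayPt → ZMod 2 := wordOf (Code.bas.getD k 0)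

theorem bw_mem : ∀ k : Fin 11, bw k.val ∈ golayCode := fun k =>
  wordOf_mem ((by decide +kernel : ∀ k : Fin 11, inC (Code.bas.getD k.val 0) = true) k)

theorem bw_none : ∀ k : Fin 11, bw k.val none = 0 := by decide +kernel

theorem bw_piv : ∀ k j : Fin 11, bw k.val (piv j.val) = if k = j then 1 else 0 := by decide +kernel

theorem piv_check : allB (fun i => (encode i).testBit 23 ||
    ((List.range 11).any fun k => (encode i).testBit (12 + k)) || encode i == 0) 12 0 = true := by
  decide +kernel

theorem eq_zero_of_piv {v : GolayPt → ZMod 2} (hv : v ∈ golayCode) (h0 : v none = 0)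
    (hp : ∀ k : Fin 11, v (piv k.val) = 0) : v = 0 := by
  have hm := forall_code (fun m => m.testBit 23 ||
    ((List.range 11).any fun k => m.testBit (12 + k)) || m == 0) piv_check (mem_golayCode_iff.1 hv)
  simp only [Bool.or_eq_true, List.any_eq_true, List.mem_range, beq_iff_eq] at hm
  have hb : ∀ p, (wmask v).testBit (idx p) = true → v p ≠ 0 := by
    intro p h
    have := congrFun (wordOf_wmask v) p
    rw [wordOf, if_pos h] at this
    rw [← this]
    exact one_ne_zero
  rcases hm with (h | ⟨k, hk, h⟩) | h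
  · exact absurd h0 (hb none h)
  · refine absurd (hp ⟨k, hk⟩) (hb _ ?_)
    rw [piv, idx_pt (by omega)]
    exact h
  · rw [← wordOf_wmask v, h, wordOf_zero]

theorem code_expand {v : GolayPt → ZMod 2} (hv : v ∈ golayCode) (h0 : v none = 0) :
    v = ∑ j : Fin 11, v (piv j.val) • bw j.val := by
  refine sub_eq_zero.1 (eq_zero_of_piv
    (Submodule.sub_mem _ hv (Submodule.sum_mem _ fun j _ => Submodule.smul_mem _ _ (bw_mem j))) ?_ ?_)
  · simp [h0, Finset.sum_apply, bw_none]
  · intro k
    simp [Finset.sum_apply, bw_piv]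

theorem comp_mem_code {σ : Equiv.Perm GolayPt} (hσ : σ ∈ M24) {v : GolayPt → ZMod 2}
    (hv : v ∈ golayCode) : v ∘ σ ∈ golayCode := by
  obtain ⟨v', hv', he⟩ := smul_mem_supports (inv_mem hσ) (s := support₂ v) ⟨v, hv, rfl⟩
  have hmask : ∀ a b : GolayPt → ZMod 2, support₂ a = support₂ b → a = b := fun a b h => by
    rw [← wordOf_wmask a, ← wordOf_wmask b, wmask, wmask, h]
  have : v ∘ σ = v' := by
    refine hmask _ _ ?_
    rw [he]
    ext p
    rw [← Finset.inv_smul_mem_iff, inv_inv]
    simp [support₂, Equiv.Perm.smul_def]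
  exact this ▸ hv'

/-! ### Common setting -/

/-- The checks give a setting. -/
theorem mkSetting {ls : List ℕ} {C : Cert} {A : Cfsg.Spor.M23 → X → X}
    (hls : lettersOK ls C = true)
    (h7 : ls.take 7 = [S2037.c0, S2037.c1, S2037.c2, S2037.c3, S2037.c4, S2037.c5, S2037.c6])
    (hmat : ∀ l < C.mats.length, A (gam ls l) = mulM (C.mats.getD l []))
    (h1 : C.loopsOK = true) (h2 : C.basisOK = true) (h3 : C.shapeOK = true) (h4 : C.targetOK = true)
    (hadd : ∀ g x y, A g (x + y) = A g x + A g y) : Setting C (gam ls) A where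
  fits := ⟨hmat, gam_rel hls⟩
  loops := h1
  basisC := h2
  shape := h3
  target := h4
  fin := inferInstance
  big := gam_big h7
  odd := M23_odd
  addA := hadd

section extension

variable {E : Type u} [Group E] (N : Subgroup E) [hN : N.Normal] (φ : E ⧸ N ≃* Cfsg.Spor.M23)

/-- The projection. -/
def prj : E →* Cfsg.Spor.M23 := φ.toMonoidHom.comp (QuotientGroup.mk' N)

theorem prj_eq_one {a : E} : prj N φ a = 1 ↔ a ∈ N := by
  simp [prj, QuotientGroup.eq_one_iff]

theorem prj_ker : (prj N φ).ker = N := by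
  ext a
  rw [MonoidHom.mem_ker, prj_eq_one]

theorem prj_surj : Function.Surjective (prj N φ) :=
  φ.surjective.comp (QuotientGroup.mk'_surjective N)

/-! ### The code module -/

/-- The action on coordinates of the code module. -/
def codeAct (σ : Cfsg.Spor.M23) (x : X) : X := fun k =>
  ∑ j : Fin 11, x j * bw j.val ((σ : Equiv.Perm GolayPt)⁻¹ (piv k.val))

theorem code_mats_ok : ((List.range Code.cert.mats.length).all fun l => (List.range 11).all fun k =>
    (List.range 24).all fun q => app (Code.letters.getD l 0) q != 12 + k ||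
      (List.range 11).all fun j => ((Code.cert.mats.getD l []).getD k 0).testBit j ==
        (Code.bas.getD j 0).testBit q) = true := by decide +kernel

theorem code_letters_ok : lettersOK Code.letters Code.cert = true := by decide +kernel

theorem code_setting : Setting Code.cert (gam Code.letters) codeAct := by
  refine mkSetting code_letters_ok (by decide +kernel) ?_ (by decide +kernel) (by decide +kernel)
    (by decide +kernel) (by decide +kernel) ?_
  · intro l hl
    have hc := gam_ok code_letters_ok hl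
    have hm := code_mats_ok
    simp only [List.all_eq_true, List.mem_range, Bool.or_eq_true, bne_iff_ne, beq_iff_eq] at hm
    funext x k
    refine Finset.sum_congr rfl fun j _ => ?_
    set p := ((gam Code.letters l : Cfsg.Spor.M23) : Equiv.Perm GolayPt)⁻¹ (piv k.val) with hp
    have hq : app (Code.letters.getD l 0) (idx p) = 12 + k.val := by
      have hok : permOK (Code.letters.getD l 0) = true := by
        simp only [okCode, Bool.and_eq_true] at hc; exact permOK_of_isAut hc.1
      rw [← idx_permOf hok, hp, gam, elt_val hc, Equiv.Perm.inv_def, Equiv.apply_symm_apply, piv,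
        idx_pt (by omega)]
    have h := (hm l hl k.val k.isLt (idx p) (idx_lt p)).resolve_left (not_not_intro hq) j.val j.isLt
    show _ = if _ then x j else 0
    rw [h, bw, wordOf]
    split <;> simp
  · intro g x y
    funext k
    simp [codeAct, add_mul, Finset.sum_add_distrib]

variable (ψ : Additive N →+ (GolayPt → ZMod 2))

open scoped Classical in
/-- The coordinates of the code module. -/
noncomputable def codeCo (a : E) : X := fun k =>
  if h : a ∈ N then ψ (Additive.ofMul ⟨a, h⟩) (piv k.val) else 0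

theorem codeCo_mem {a : E} (h : a ∈ N) (k : Fin 11) :
    codeCo N ψ a k = ψ (Additive.ofMul ⟨a, h⟩) (piv k.val) := dif_pos h

/-- An extension by the code module. -/
noncomputable def codeExt (hinj : Function.Injective ψ)
    (hrange : ∀ w : GolayPt → ZMod 2, w ∈ Set.range ψ ↔ (w ∈ golayCode ∧ w none = 0))
    (hψ : ∀ (g : E) (n : N),
      ψ (Additive.ofMul ⟨g * n * g⁻¹, hN.conj_mem n n.2 g⟩)
        = ψ (Additive.ofMul n) ∘ ⇑(((φ (QuotientGroup.mk g) : Cfsg.Spor.M23) : Equiv.Perm GolayPt)⁻¹)) :
    Data E Cfsg.Spor.M23 codeAct where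
  π := prj N φ
  co := codeCo N ψ
  co_mul a b ha hb := by
    rw [prj_eq_one] at ha hb
    funext k
    rw [Pi.add_apply, codeCo_mem N ψ ha, codeCo_mem N ψ hb, codeCo_mem N ψ (mul_mem ha hb),
      ← Pi.add_apply, ← map_add]
    rfl
  co_inj a ha h0 := by
    rw [prj_eq_one] at ha
    obtain ⟨h1, h2⟩ := (hrange _).1 ⟨Additive.ofMul ⟨a, ha⟩, rfl⟩
    have := eq_zero_of_piv h1 h2 fun k => by rw [← codeCo_mem N ψ ha, h0]; rfl
    rw [← map_zero ψ] at this
    exact congrArg Subtype.val (congrArg Additive.toMul (hinj this))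
  co_surj x := by
    obtain ⟨n, hn⟩ := (hrange (∑ j : Fin 11, x j • bw j.val)).2
      ⟨Submodule.sum_mem _ fun j _ => Submodule.smul_mem _ _ (bw_mem j),
        by simp [Finset.sum_apply, bw_none]⟩
    refine ⟨n.toMul.1, (prj_eq_one N φ).2 n.toMul.2, funext fun k => ?_⟩
    rw [codeCo_mem N ψ n.toMul.2]
    show ψ n _ = _
    rw [hn]
    simp [Finset.sum_apply, bw_piv]
  surj := prj_surj N φ
  act g a ha := by
    rw [prj_eq_one] at ha
    obtain ⟨h1, h2⟩ := (hrange _).1 ⟨Additive.ofMul ⟨a, ha⟩, rfl⟩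
    funext k
    rw [codeCo_mem N ψ (hN.conj_mem a ha g), hψ g ⟨a, ha⟩, Function.comp_apply]
    show _ = ∑ j : Fin 11, codeCo N ψ a j *
      bw j.val ((((prj N φ g) : Cfsg.Spor.M23) : Equiv.Perm GolayPt)⁻¹ (piv k.val))
    conv_lhs => rw [code_expand h1 h2]
    simp only [Finset.sum_apply, Pi.smul_apply, smul_eq_mul, codeCo_mem N ψ ha]
    rfl

/-- Extensions by the code module split. -/
theorem code_split [Finite E] (hinj : Function.Injective ψ)
    (hrange : ∀ w : GolayPt → ZMod 2, w ∈ Set.range ψ ↔ (w ∈ golayCode ∧ w none = 0))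
    (hψ : ∀ (g : E) (n : N),
      ψ (Additive.ofMul ⟨g * n * g⁻¹, hN.conj_mem n n.2 g⟩)
        = ψ (Additive.ofMul n) ∘ ⇑(((φ (QuotientGroup.mk g) : Cfsg.Spor.M23) : Equiv.Perm GolayPt)⁻¹)) :
    ∃ H : Subgroup E, H ⊓ N = ⊥ ∧ H ⊔ N = ⊤ := by
  choose L hL using fun l => prj_surj N φ (gam Code.letters l)
  obtain ⟨H, hH⟩ := exists_complement code_setting (codeExt N φ ψ hinj hrange hψ) L hL
    (ev_zero _ _)
  have hH' : Subgroup.IsComplement' N H := prj_ker N φ ▸ hH
  exact ⟨H, by rw [inf_comm]; exact disjoint_iff.1 hH'.disjoint,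
    by rw [sup_comm]; exact hH'.sup_eq_top⟩

/-! ### The cocode module -/

/-- The pairings with the basis words. -/
def pair (v : GolayPt → ZMod 2) : X := fun k => ∑ p, v p * bw k.val p

theorem pair_add (v v' : GolayPt → ZMod 2) : pair (v + v') = pair v + pair v' := by
  funext k
  simp [pair, add_mul, Finset.sum_add_distrib]

theorem pair_gen : ∀ (t : Fin 24) (k : Fin 11),
    ∑ p, wordOf (genMasks.getD t.val 0) p * bw k.val p = 0 := by decide +kernel

theorem pair_code {v : GolayPt → ZMod 2} (hv : v ∈ golayCode) : pair v = 0 := by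
  induction hv using Submodule.span_induction with
  | mem x hx =>
    funext k
    rcases hx with ⟨t, rfl⟩ | hx
    · have ht : t.val < 24 := by have := t.val_lt; omega
      simp only [pair, qrWord_eq]
      exact pair_gen ⟨t.val, ht⟩ k
    · rw [Set.mem_singleton_iff] at hx
      simp only [pair, hx, one_eq]
      exact pair_gen ⟨23, by norm_num⟩ k
  | zero => funext k; simp [pair]
  | add x y _ _ hx hy => rw [pair_add, hx, hy, add_zero]
  | smul c x _ hx =>
    funext k
    have := congrFun hx k
    simp only [pair, Pi.zero_apply] at this ⊢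
    simp [Pi.smul_apply, mul_assoc, ← Finset.mul_sum, this]

theorem pair_single_none : pair (Pi.single none 1) = 0 := by decide +kernel

theorem pair_single_piv : ∀ j k : Fin 11,
    pair (Pi.single (piv j.val) 1) k = if j = k then 1 else 0 := by decide +kernel

theorem reduce_mask : ∀ i : Fin 24,
    inC (wmask (Pi.single (pt i.val) 1 +
      ∑ k : Fin 11, bw k.val (pt i.val) • Pi.single (piv k.val) 1)) = true ∨
    inC (wmask (Pi.single (pt i.val) 1 +
      ∑ k : Fin 11, bw k.val (pt i.val) • Pi.single (piv k.val) 1 + Pi.single none 1)) = true := by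
  decide +kernel

/-- The action on coordinates of the cocode module. -/
def coAct (σ : Cfsg.Spor.M23) (x : X) : X := fun k =>
  ∑ j : Fin 11, bw k.val ((σ : Equiv.Perm GolayPt) (piv j.val)) * x j

theorem co_mats_ok : ((List.range Co.cert.mats.length).all fun l => (List.range 11).all fun k =>
    (List.range 11).all fun j => ((Co.cert.mats.getD l []).getD k 0).testBit j ==
      (Code.bas.getD k 0).testBit (app (Co.letters.getD l 0) (12 + j))) = true := by decide +kernel

theorem co_letters_ok : lettersOK Co.letters Co.cert = true := by decide +kernel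

theorem co_setting : Setting Co.cert (gam Co.letters) coAct := by
  refine mkSetting co_letters_ok (by decide +kernel) ?_ (by decide +kernel) (by decide +kernel)
    (by decide +kernel) (by decide +kernel) ?_
  · intro l hl
    have hc := gam_ok co_letters_ok hl
    have hm := co_mats_ok
    simp only [List.all_eq_true, List.mem_range, beq_iff_eq] at hm
    have hok : permOK (Co.letters.getD l 0) = true := by
      simp only [okCode, Bool.and_eq_true] at hc; exact permOK_of_isAut hc.1
    funext x k
    refine Finset.sum_congr rfl fun j _ => ?_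
    rw [hm l hl k.val k.isLt j.val j.isLt, bw, wordOf, gam, elt_val hc, idx_permOf hok, piv,
      idx_pt (by omega)]
    split <;> simp
  · intro g x y
    funext k
    simp [coAct, mul_add, Finset.sum_add_distrib]

variable (θ : (GolayPt → ZMod 2) →+ Additive N) (hsurj : Function.Surjective θ)

open scoped Classical in
/-- The coordinates of the cocode module. -/
noncomputable def coCo (a : E) : X :=
  if h : a ∈ N then pair (Function.surjInv hsurj (Additive.ofMul ⟨a, h⟩)) else 0

theorem coCo_spec
    (hker : ∀ w : GolayPt → ZMod 2, θ w = 0 ↔ (w ∈ golayCode ∨ w + Pi.single none 1 ∈ golayCode))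
    (v : GolayPt → ZMod 2) : coCo N θ hsurj ((θ v).toMul : E) = pair v := by
  rw [coCo, dif_pos (θ v).toMul.2]
  show pair (Function.surjInv hsurj (θ v)) = pair v
  set v' := Function.surjInv hsurj (θ v)
  have h0 : θ (v' - v) = 0 := by rw [map_sub, Function.surjInv_eq hsurj, sub_self]
  have h1 : pair (v' - v) = 0 := by
    rcases (hker _).1 h0 with h | h
    · exact pair_code h
    · have := pair_code h
      rwa [pair_add, pair_single_none, add_zero] at this
  conv_lhs => rw [← sub_add_cancel v' v]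
  rw [pair_add, h1, zero_add]

theorem theta_eq_zero
    (hker : ∀ w : GolayPt → ZMod 2, θ w = 0 ↔ (w ∈ golayCode ∨ w + Pi.single none 1 ∈ golayCode))
    {v : GolayPt → ZMod 2} (hv : pair v = 0) : θ v = 0 := by
  set K : AddSubgroup (GolayPt → ZMod 2) := θ.ker
  have hsmul : ∀ (c : ZMod 2) {x : GolayPt → ZMod 2}, x ∈ K → c • x ∈ K := fun c x hx => by
    rcases (show c = 0 ∨ c = 1 from (by decide : ∀ c : ZMod 2, c = 0 ∨ c = 1) c) with rfl | rfl
    · rw [zero_smul]; exact zero_mem K
    · rwa [one_smul]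
  have hu : ∀ p, Pi.single p 1 + ∑ k : Fin 11, bw k.val p • Pi.single (piv k.val) 1 ∈ K := by
    intro p
    rw [AddMonoidHom.mem_ker, hker, mem_golayCode_iff, mem_golayCode_iff]
    have := reduce_mask ⟨idx p, idx_lt p⟩
    simp only [pt_idx] at this
    exact this
  have hsum : ∑ p, v p • (Pi.single p 1 +
      ∑ k : Fin 11, bw k.val p • Pi.single (piv k.val) (1 : ZMod 2)) ∈ K :=
    sum_mem fun p _ => hsmul _ (hu p)
  have e : ∑ p, v p • (Pi.single p 1 +
      ∑ k : Fin 11, bw k.val p • Pi.single (piv k.val) (1 : ZMod 2)) = v := by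
    simp only [smul_add, Finset.sum_add_distrib, Finset.smul_sum, smul_smul]
    conv_lhs => arg 2; rw [Finset.sum_comm]
    simp only [← Finset.sum_smul]
    have hz : ∀ k : Fin 11, ∑ p, v p * bw k.val p = 0 := fun k => congrFun hv k
    simp only [hz, zero_smul, Finset.sum_const_zero, add_zero]
    funext q
    simp [Finset.sum_apply, Pi.single_apply]
  rw [e] at hsum
  exact hsum

/-- An extension by the cocode module. -/
noncomputable def coExt
    (hker : ∀ w : GolayPt → ZMod 2, θ w = 0 ↔ (w ∈ golayCode ∨ w + Pi.single none 1 ∈ golayCode))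
    (hθ : ∀ (g : E) (w : GolayPt → ZMod 2),
      ((θ (w ∘ ⇑(((φ (QuotientGroup.mk g) : Cfsg.Spor.M23) : Equiv.Perm GolayPt)⁻¹))).toMul : E)
        = g * ((θ w).toMul : E) * g⁻¹) : Data E Cfsg.Spor.M23 coAct where
  π := prj N φ
  co := coCo N θ hsurj
  co_mul a b ha hb := by
    rw [prj_eq_one] at ha hb
    obtain ⟨v, hv⟩ := hsurj (Additive.ofMul ⟨a, ha⟩)
    obtain ⟨v', hv'⟩ := hsurj (Additive.ofMul ⟨b, hb⟩)
    rw [show a = ((θ v).toMul : E) by rw [hv]; rfl, show b = ((θ v').toMul : E) by rw [hv']; rfl,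
      ← Subgroup.coe_mul, ← toMul_add, ← map_add, coCo_spec N θ hsurj hker,
      coCo_spec N θ hsurj hker, coCo_spec N θ hsurj hker, pair_add]
  co_inj a ha h0 := by
    rw [prj_eq_one] at ha
    obtain ⟨v, hv⟩ := hsurj (Additive.ofMul ⟨a, ha⟩)
    rw [show a = ((θ v).toMul : E) by rw [hv]; rfl] at h0 ⊢
    rw [coCo_spec N θ hsurj hker] at h0
    rw [theta_eq_zero N θ hker h0]
    rfl
  co_surj x := by
    refine ⟨((θ (∑ j : Fin 11, x j • Pi.single (piv j.val) 1)).toMul : E),
      (prj_eq_one N φ).2 (θ _).toMul.2, ?_⟩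
    rw [coCo_spec N θ hsurj hker]
    funext k
    have hlin : ∀ c : ZMod 2, ∀ v, pair (c • v) k = c * pair v k := fun c v => by
      show ∑ p, (c • v) p * bw k.val p = c * ∑ p, v p * bw k.val p
      rw [Finset.mul_sum]
      exact Finset.sum_congr rfl fun p _ => mul_assoc c _ _
    have hsum : ∀ (s : Finset (Fin 11)) (f : Fin 11 → GolayPt → ZMod 2),
        pair (∑ j ∈ s, f j) k = ∑ j ∈ s, pair (f j) k := fun s f => by
      simp only [pair, Finset.sum_apply, Finset.sum_mul]
      exact Finset.sum_comm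
    rw [hsum]
    simp [hlin, pair_single_piv]
  surj := prj_surj N φ
  act g a ha := by
    rw [prj_eq_one] at ha
    obtain ⟨v, hv⟩ := hsurj (Additive.ofMul ⟨a, ha⟩)
    rw [show a = ((θ v).toMul : E) by rw [hv]; rfl, ← hθ, coCo_spec N θ hsurj hker,
      coCo_spec N θ hsurj hker]
    set σ : Cfsg.Spor.M23 := prj N φ g
    funext k
    show ∑ p, v (((σ : Cfsg.Spor.M23) : Equiv.Perm GolayPt)⁻¹ p) * bw k.val p =
      ∑ j : Fin 11, bw k.val ((σ : Equiv.Perm GolayPt) (piv j.val)) * ∑ p, v p * bw j.val p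
    rw [← Equiv.sum_comp (σ : Equiv.Perm GolayPt)
      (fun p => v (((σ : Cfsg.Spor.M23) : Equiv.Perm GolayPt)⁻¹ p) * bw k.val p)]
    have he := code_expand (comp_mem_code σ.2.1 (bw_mem k)) (by
      rw [Function.comp_apply, show (σ : Equiv.Perm GolayPt) none = none from σ.2.2, bw_none])
    simp only [Equiv.Perm.inv_def, Equiv.symm_apply_apply, Finset.mul_sum]
    rw [Finset.sum_comm]
    refine Finset.sum_congr rfl fun p _ => ?_
    have := congrFun he p
    simp only [Function.comp_apply, Finset.sum_apply, Pi.smul_apply, smul_eq_mul] at this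
    rw [this, Finset.mul_sum]
    exact Finset.sum_congr rfl fun j _ => by ring

/-- Extensions by the cocode module without complement have extra form one. -/
theorem co_lam [Finite E]
    (hker : ∀ w : GolayPt → ZMod 2, θ w = 0 ↔ (w ∈ golayCode ∨ w + Pi.single none 1 ∈ golayCode))
    (hθ : ∀ (g : E) (w : GolayPt → ZMod 2),
      ((θ (w ∘ ⇑(((φ (QuotientGroup.mk g) : Cfsg.Spor.M23) : Equiv.Perm GolayPt)⁻¹))).toMul : E)
        = g * ((θ w).toMul : E) * g⁻¹)
    (hns : ∀ H : Subgroup E, H ⊓ N = ⊥ → H ⊔ N ≠ ⊤)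
    (L : ℕ → E) (hL : ∀ l, prj N φ (L l) = gam Co.letters l) :
    (coExt N φ θ hsurj hker hθ).lamVal L Co.cert = 1 := by
  rcases (show ∀ c : ZMod 2, c = 0 ∨ c = 1 by decide) ((coExt N φ θ hsurj hker hθ).lamVal L Co.cert)
    with h | h
  · obtain ⟨H, hH⟩ := exists_complement co_setting (coExt N φ θ hsurj hker hθ) L hL h
    have hH' : Subgroup.IsComplement' N H := prj_ker N φ ▸ hH
    exact absurd (by rw [sup_comm]; exact hH'.sup_eq_top)
      (hns H (by rw [inf_comm]; exact disjoint_iff.1 hH'.disjoint))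
  · exact h

end extension

/-- Two extensions by the cocode module without complements are isomorphic. -/
theorem co_unique {E : Type u} [Group E] [Finite E] (N : Subgroup E) [N.Normal]
    (φ : E ⧸ N ≃* Cfsg.Spor.M23) (θ : (GolayPt → ZMod 2) →+ Additive N)
    (hsurj : Function.Surjective θ)
    (hker : ∀ w : GolayPt → ZMod 2, θ w = 0 ↔ (w ∈ golayCode ∨ w + Pi.single none 1 ∈ golayCode))
    (hθ : ∀ (g : E) (w : GolayPt → ZMod 2),
      ((θ (w ∘ ⇑(((φ (QuotientGroup.mk g) : Cfsg.Spor.M23) : Equiv.Perm GolayPt)⁻¹))).toMul : E)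
        = g * ((θ w).toMul : E) * g⁻¹)
    (hns : ∀ H : Subgroup E, H ⊓ N = ⊥ → H ⊔ N ≠ ⊤)
    {E' : Type w} [Group E'] [Finite E'] (N' : Subgroup E') [N'.Normal]
    (φ' : E' ⧸ N' ≃* Cfsg.Spor.M23) (θ' : (GolayPt → ZMod 2) →+ Additive N')
    (hsurj' : Function.Surjective θ')
    (hker' : ∀ w : GolayPt → ZMod 2, θ' w = 0 ↔ (w ∈ golayCode ∨ w + Pi.single none 1 ∈ golayCode))
    (hθ' : ∀ (g : E') (w : GolayPt → ZMod 2),
      ((θ' (w ∘ ⇑(((φ' (QuotientGroup.mk g) : Cfsg.Spor.M23) : Equiv.Perm GolayPt)⁻¹))).toMul : E')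
        = g * ((θ' w).toMul : E') * g⁻¹)
    (hns' : ∀ H : Subgroup E', H ⊓ N' = ⊥ → H ⊔ N' ≠ ⊤) :
    Nonempty (E ≃* E') := by
  choose L hL using fun l => prj_surj N φ (gam Co.letters l)
  choose L' hL' using fun l => prj_surj N' φ' (gam Co.letters l)
  exact nonempty_iso co_setting (coExt N φ θ hsurj hker hθ) (coExt N' φ' θ' hsurj' hker' hθ')
    L hL L' hL' (co_lam N φ θ hsurj hker hθ hns L hL) (co_lam N' φ' θ' hsurj' hker' hθ' hns' L' hL')

end Cfsg.Agent.FGS4.ModExt
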