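import Cfsg.Agent.FGS4.ModExt.Engine
import Cfsg.Agent.LocalEven.Gaschutz

/-!
# Splitting and uniqueness of extensions from a certificate on a subgroup of odd index
-/

set_option autoImplicit false
set_option linter.unusedSectionVars false

namespace Cfsg.Agent.FGS4.ModExt

open scoped Pointwise

universe u v w

variable {E : Type u} [Group E] {E' : Type w} [Group E'] {G : Type v} [Group G] {A : G → X → X}

/-- A certificate with its checks, for a group of order `128` times an odd number. -/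
structure Setting (C : Cert) (γ : ℕ → G) (A : G → X → X) : Prop where
  fits : Fits C γ A
  loops : C.loopsOK = true
  basisC : C.basisOK = true
  shape : C.shapeOK = true
  target : C.targetOK = true
  fin : Finite G
  big : 128 ≤ Nat.card (Subgroup.closure (γ '' {l | l < 7}))
  odd : ∀ H : Subgroup G, Nat.card H = 128 → Odd H.index
  addA : ∀ g x y, A g (x + y) = A g x + A g y

/-- The value of the extra form. -/
def Data.lamVal (D : Data E G A) (L : ℕ → E) (C : Cert) : ZMod 2 :=
  ev (D.beta L C.rules) (11 * C.rules.length) C.lam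

theorem Data.card_ker [Finite E] (D : Data E G A) : Nat.card D.π.ker = 2 ^ 11 := by
  have hb : Function.Bijective (fun a : D.π.ker => D.co a.1) := by
    refine ⟨fun a b h => Subtype.ext ?_, fun x => ?_⟩
    · have h1 : D.π (a.1 * b.1⁻¹) = 1 := by
        rw [map_mul, map_inv, MonoidHom.mem_ker.1 a.2, MonoidHom.mem_ker.1 b.2, inv_one, one_mul]
      refine mul_inv_eq_one.1 (D.co_inj _ h1 ?_)
      rw [D.co_mul _ _ a.2 (by rw [map_inv, MonoidHom.mem_ker.1 b.2, inv_one]), D.co_inv b.2]
      show D.co a.1 + D.co b.1 = 0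
      rw [show D.co a.1 = D.co b.1 from h, X_add_self]
    · obtain ⟨a, ha, hx⟩ := D.co_surj x
      exact ⟨⟨a, ha⟩, hx⟩
  rw [Nat.card_eq_of_bijective _ hb]
  simp

theorem Data.ker_comm (D : Data E G A) : IsMulCommutative D.π.ker := ⟨⟨fun a b => Subtype.ext (by
  have ha : D.π a.1 = 1 := a.2
  have hb : D.π b.1 = 1 := b.2
  show a.1 * b.1 = b.1 * a.1
  refine mul_inv_eq_one.1 (D.co_inj _ (by simp [ha, hb]) ?_)
  rw [D.co_mul _ _ (by simp [ha, hb]) (by simp [ha, hb]), D.co_inv (by simp [ha, hb]),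
    D.co_mul _ _ ha hb, D.co_mul _ _ hb ha, add_comm (D.co b.1), X_add_self])⟩⟩

/-- With vanishing extra form the extension splits. -/
theorem exists_complement [Finite E] {C : Cert} {γ : ℕ → G} (S : Setting C γ A) (D : Data E G A)
    (L : ℕ → E) (hL : ∀ l, D.π (L l) = γ l) (hlam : D.lamVal L C = 0) :
    ∃ H : Subgroup E, Subgroup.IsComplement' D.π.ker H := by
  haveI := S.fin
  obtain ⟨L', hL', hle⟩ := exists_lifts S.fits hL S.loops S.basisC S.shape S.target hlam
  set H0 := Subgroup.closure (L' '' {l | l < 7})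
  set P := Subgroup.closure (γ '' {l | l < 7})
  have hmap : H0.map D.π = P := by
    rw [MonoidHom.map_closure]
    congr 1
    rw [← Set.image_comp]
    exact Set.image_congr fun l _ => hL' l
  let f : H0 → P := fun x => ⟨D.π x.1, hmap ▸ Subgroup.mem_map_of_mem _ x.2⟩
  have hsurj : Function.Surjective f := fun y => by
    obtain ⟨x, hx, e⟩ : y.1 ∈ H0.map D.π := hmap.symm ▸ y.2
    exact ⟨⟨x, hx⟩, Subtype.ext e⟩
  have hcard : Nat.card H0 = Nat.card P :=
    le_antisymm (hle.trans S.big) (Nat.card_le_card_of_surjective f hsurj)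
  have hP : Nat.card P = 128 := le_antisymm (hcard ▸ hle) S.big
  have hinj : Function.Injective f := (Nat.bijective_iff_surjective_and_card f).2 ⟨hsurj, hcard⟩ |>.1
  have hHK : H0 ⊓ D.π.ker = ⊥ := by
    rw [eq_bot_iff]
    rintro x ⟨hx, hk⟩
    have := @hinj ⟨x, hx⟩ 1 (Subtype.ext (by simpa [f] using hk))
    exact congrArg Subtype.val this
  haveI := D.ker_comm
  have hU : D.π.ker ⊔ H0 = P.comap D.π := by
    rw [← hmap, Subgroup.comap_map_eq, sup_comm]
  obtain ⟨H, hH⟩ := LocalEven.gaschutz_exists D.π.ker (P.comap D.π)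
    (hU ▸ le_sup_left) (by
      rw [D.card_ker, Subgroup.index_comap_of_surjective P D.surj]
      exact Nat.Coprime.pow_left 11 ((Nat.coprime_two_left).2 (S.odd P hP)))
    H0 (hU ▸ le_sup_right) hHK hU
  exact ⟨H, hH⟩

section difference

variable (D : Data E G A) (D' : Data E' G A)

/-- Pairs with the same image. -/
def fibre : Subgroup (E × E') where
  carrier := {q | D.π q.1 = D'.π q.2}
  mul_mem' {a b} ha hb := by
    show D.π (a.1 * b.1) = D'.π (a.2 * b.2)
    rw [map_mul, map_mul, show D.π a.1 = _ from ha, show D.π b.1 = _ from hb]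
  one_mem' := by simp
  inv_mem' {a} ha := by
    show D.π a.1⁻¹ = D'.π a.2⁻¹
    rw [map_inv, map_inv, show D.π a.1 = _ from ha]

/-- Pairs in the kernels with equal coordinates. -/
def diag : Subgroup (fibre D D') where
  carrier := {q | D.π q.1.1 = 1 ∧ D.co q.1.1 = D'.co q.1.2}
  mul_mem' {a b} ha hb := by
    have ha' : D'.π a.1.2 = 1 := a.2.symm.trans ha.1
    have hb' : D'.π b.1.2 = 1 := b.2.symm.trans hb.1
    refine ⟨by simp [ha.1, hb.1], ?_⟩
    show D.co (a.1.1 * b.1.1) = D'.co (a.1.2 * b.1.2)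
    rw [D.co_mul _ _ ha.1 hb.1, D'.co_mul _ _ ha' hb', ha.2, hb.2]
  one_mem' := ⟨by simp, by simp [D.co_one, D'.co_one]⟩
  inv_mem' {a} ha := by
    have ha' : D'.π a.1.2 = 1 := a.2.symm.trans ha.1
    refine ⟨by simp [ha.1], ?_⟩
    show D.co a.1.1⁻¹ = D'.co a.1.2⁻¹
    rw [D.co_inv ha.1, D'.co_inv ha', ha.2]

theorem diag_normal : (diag D D').Normal := ⟨fun a ha g => by
  have ha' : D'.π a.1.2 = 1 := a.2.symm.trans ha.1
  refine ⟨by simp [ha.1], ?_⟩
  show D.co (g.1.1 * a.1.1 * g.1.1⁻¹) = D'.co (g.1.2 * a.1.2 * g.1.2⁻¹)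
  rw [D.act _ _ ha.1, D'.act _ _ ha', ha.2, show D.π g.1.1 = D'.π g.1.2 from g.2]⟩

/-- The difference of two extensions. -/
abbrev Diff : Type (max u w) := fibre D D' ⧸ diag D D'

attribute [local instance] diag_normal

/-- Its projection. -/
def diffHom : Diff D D' →* G :=
  QuotientGroup.lift (diag D D') ((D.π.comp (MonoidHom.fst E E')).comp (fibre D D').subtype)
    fun _ hq => hq.1

theorem diffHom_mk (q : fibre D D') : diffHom D D' (q : Diff D D') = D.π q.1.1 := rfl

/-- Its coordinates. -/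
noncomputable def diffCo (q : Diff D D') : X := D.co q.out.1.1 + D'.co q.out.1.2

theorem diffCo_mk {q : fibre D D'} (hq : D.π q.1.1 = 1) :
    diffCo D D' (q : Diff D D') = D.co q.1.1 + D'.co q.1.2 := by
  have hq' : D'.π q.1.2 = 1 := q.2.symm.trans hq
  obtain ⟨d, hd⟩ := QuotientGroup.mk_out_eq_mul (diag D D') q
  obtain ⟨hd1, hd2⟩ := d.2
  have hd' : D'.π d.1.1.2 = 1 := d.1.2.symm.trans hd1
  rw [diffCo, hd]
  show D.co (q.1.1 * d.1.1.1) + D'.co (q.1.2 * d.1.1.2) = _
  rw [D.co_mul _ _ hq hd1, D'.co_mul _ _ hq' hd', hd2, add_add_add_comm, X_add_self, add_zero]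

/-- The difference extension. -/
noncomputable def diff (hA : ∀ g x y, A g (x + y) = A g x + A g y) : Data (Diff D D') G A where
  π := diffHom D D'
  co := diffCo D D'
  co_mul a b := by
    induction a using QuotientGroup.induction_on with
    | H a => induction b using QuotientGroup.induction_on with
      | H b =>
        intro ha hb
        rw [diffHom_mk] at ha hb
        have ha' : D'.π a.1.2 = 1 := a.2.symm.trans ha
        have hb' : D'.π b.1.2 = 1 := b.2.symm.trans hb
        rw [← QuotientGroup.mk_mul, diffCo_mk D D' (by simp [ha, hb]), diffCo_mk D D' ha,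
          diffCo_mk D D' hb]
        show D.co (a.1.1 * b.1.1) + D'.co (a.1.2 * b.1.2) = _
        rw [D.co_mul _ _ ha hb, D'.co_mul _ _ ha' hb', add_add_add_comm]
  co_inj a := by
    induction a using QuotientGroup.induction_on with
    | H a =>
      intro ha h0
      rw [diffHom_mk] at ha
      rw [diffCo_mk D D' ha] at h0
      refine (QuotientGroup.eq_one_iff _).2 ⟨ha, ?_⟩
      calc D.co a.1.1 = D.co a.1.1 + (D'.co a.1.2 + D'.co a.1.2) := by rw [X_add_self, add_zero]
        _ = (D.co a.1.1 + D'.co a.1.2) + D'.co a.1.2 := by rw [add_assoc]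
        _ = _ := by rw [h0, zero_add]
  co_surj x := by
    obtain ⟨a, ha, rfl⟩ := D.co_surj x
    refine ⟨((⟨(a, 1), by show D.π a = D'.π 1; rw [ha, map_one]⟩ : fibre D D') : Diff D D'), ?_, ?_⟩
    · rw [diffHom_mk]; exact ha
    · rw [diffCo_mk D D' ha]
      show D.co a + D'.co 1 = _
      rw [D'.co_one, add_zero]
  surj g := by
    obtain ⟨a, rfl⟩ := D.surj g
    obtain ⟨b, hb⟩ := D'.surj (D.π a)
    exact ⟨((⟨(a, b), hb.symm⟩ : fibre D D') : Diff D D'), rfl⟩
  act g a := by
    induction g using QuotientGroup.induction_on with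
    | H g => induction a using QuotientGroup.induction_on with
      | H a =>
        intro ha
        rw [diffHom_mk] at ha
        have ha' : D'.π a.1.2 = 1 := a.2.symm.trans ha
        rw [← QuotientGroup.mk_inv, ← QuotientGroup.mk_mul, ← QuotientGroup.mk_mul,
          diffCo_mk D D' (by simp [ha]), diffCo_mk D D' ha]
        show D.co (g.1.1 * a.1.1 * g.1.1⁻¹) + D'.co (g.1.2 * a.1.2 * g.1.2⁻¹) = _
        rw [D.act _ _ ha, D'.act _ _ ha', ← show D.π g.1.1 = D'.π g.1.2 from g.2, hA, diffHom_mk]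

end difference

/-- Two extensions with extra form one are isomorphic. -/
theorem nonempty_iso [Finite E] [Finite E'] {C : Cert} {γ : ℕ → G} (S : Setting C γ A)
    (D : Data E G A) (D' : Data E' G A)
    (L : ℕ → E) (hL : ∀ l, D.π (L l) = γ l) (L' : ℕ → E') (hL' : ∀ l, D'.π (L' l) = γ l)
    (h : D.lamVal L C = 1) (h' : D'.lamVal L' C = 1) : Nonempty (E ≃* E') := by
  classical
  haveI := diag_normal D D'
  let Lf : ℕ → fibre D D' := fun l => ⟨(L l, L' l), (hL l).trans (hL' l).symm⟩
  let LF : ℕ → Diff D D' := fun l => (Lf l : Diff D D')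
  set DF := diff D D' S.addA
  have hLF : ∀ l, DF.π (LF l) = γ l := fun l => hL l
  have hw : ∀ w : List ℕ, wp LF w = ((wp Lf w : fibre D D') : Diff D D') ∧
      (wp Lf w).1 = (wp L w, wp L' w) := by
    intro w
    induction w with
    | nil => exact ⟨rfl, rfl⟩
    | cons x w ih =>
      simp only [wp, List.map_cons, List.prod_cons] at ih ⊢
      exact ⟨by rw [ih.1]; rfl, by rw [Subgroup.coe_mul, ih.2]; rfl⟩
  have hbeta : ∀ i < 11 * C.rules.length,
      DF.beta LF C.rules i = D.beta L C.rules i + D'.beta L' C.rules i := by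
    intro i hi
    simp only [Data.beta]
    set ab := C.rules.getD (i / 11) ([], []) with habdef
    have hab : ab ∈ C.rules := by
      rw [habdef, List.getD_eq_getElem?_getD, List.getElem?_eq_getElem (by omega)]
      exact List.getElem_mem _
    have hq : D.π (wp Lf ab.1 * (wp Lf ab.2)⁻¹).1.1 = 1 := by
      rw [Subgroup.coe_mul, Subgroup.coe_inv, (hw _).2, (hw _).2]
      show D.π (wp L ab.1 * (wp L ab.2)⁻¹) = 1
      rw [map_mul, map_inv, pi_wp hL, pi_wp hL, S.fits.rel ab hab, mul_inv_cancel]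
    rw [(hw _).1, (hw _).1, ← QuotientGroup.mk_inv, ← QuotientGroup.mk_mul]
    show diffCo D D' _ _ = _
    rw [diffCo_mk D D' hq, Subgroup.coe_mul, Subgroup.coe_inv, (hw _).2, (hw _).2]
    rfl
  have hlam : DF.lamVal LF C = 0 := by
    have e : DF.lamVal LF C = D.lamVal L C + D'.lamVal L' C := by
      simp only [Data.lamVal, ev, ← Finset.sum_add_distrib]
      refine Finset.sum_congr rfl fun i hi => ?_
      rw [hbeta i (Finset.mem_range.1 hi)]
      split <;> simp
    rw [e, h, h']
    exact add_self 1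
  obtain ⟨H, hH⟩ := exists_complement S DF LF hLF hlam
  set K0 := H.comap (QuotientGroup.mk' (diag D D'))
  have hdiag : ∀ q : fibre D D', q ∈ K0 → D.π q.1.1 = 1 → q ∈ diag D D' := fun q hq h1 => by
    have hbot := (disjoint_iff.1 hH.disjoint)
    have : (q : Diff D D') ∈ DF.π.ker ⊓ H := ⟨h1, hq⟩
    rw [hbot, Subgroup.mem_bot, QuotientGroup.eq_one_iff] at this
    exact this
  have hD : diag D D' ≤ K0 := fun q hq => by
    show (q : Diff D D') ∈ H
    rw [(QuotientGroup.eq_one_iff _).2 hq]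
    exact one_mem _
  let p1 : K0 →* E := ((MonoidHom.fst E E').comp (fibre D D').subtype).comp K0.subtype
  let p2 : K0 →* E' := ((MonoidHom.snd E E').comp (fibre D D').subtype).comp K0.subtype
  have hex : ∀ g : G, ∃ q ∈ K0, D.π q.1.1 = g := by
    intro g
    obtain ⟨z, rfl⟩ := DF.surj g
    have hz : z ∈ (DF.π.ker : Set (Diff D D')) * (H : Set (Diff D D')) := by
      rw [hH.mul_eq]; exact Set.mem_univ z
    obtain ⟨n, hn, m, hm, rfl⟩ := Set.mem_mul.1 hz
    obtain ⟨q, rfl⟩ := QuotientGroup.mk_surjective m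
    refine ⟨q, hm, ?_⟩
    rw [map_mul, show DF.π n = 1 from hn, one_mul]
    rfl
  have b1 : Function.Bijective p1 := by
    constructor
    · refine (injective_iff_map_eq_one p1).2 fun q hq => ?_
      have h1 : q.1.1.1 = 1 := hq
      obtain ⟨-, h2⟩ := hdiag q.1 q.2 (by rw [h1, map_one])
      have h2' : q.1.1.2 = 1 := D'.co_inj _ (q.1.2.symm.trans (by rw [h1, map_one]))
        (by rw [← h2, h1, D.co_one])
      exact Subtype.ext (Subtype.ext (Prod.ext h1 h2'))
    · intro x
      obtain ⟨q, hq, hqx⟩ := hex (D.π x)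
      have hn : D.π (q.1.1⁻¹ * x) = 1 := by simp [hqx]
      obtain ⟨n', hn', hco⟩ := D'.co_surj (D.co (q.1.1⁻¹ * x))
      refine ⟨⟨q * ⟨(q.1.1⁻¹ * x, n'), hn.trans hn'.symm⟩, mul_mem hq (hD ⟨hn, hco.symm⟩)⟩, ?_⟩
      show q.1.1 * (q.1.1⁻¹ * x) = x
      group
  have b2 : Function.Bijective p2 := by
    constructor
    · refine (injective_iff_map_eq_one p2).2 fun q hq => ?_
      have h1 : q.1.1.2 = 1 := hq
      have hπ : D.π q.1.1.1 = 1 := q.1.2.trans (by rw [h1, map_one])
      obtain ⟨-, h2⟩ := hdiag q.1 q.2 hπ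
      have h2' : q.1.1.1 = 1 := D.co_inj _ hπ (by rw [h2, h1, D'.co_one])
      exact Subtype.ext (Subtype.ext (Prod.ext h2' h1))
    · intro x
      obtain ⟨q, hq, hqx⟩ := hex (D'.π x)
      have hn : D'.π (q.1.2⁻¹ * x) = 1 := by
        rw [map_mul, map_inv, ← show D.π q.1.1 = D'.π q.1.2 from q.2, hqx, inv_mul_cancel]
      obtain ⟨n', hn', hco⟩ := D.co_surj (D'.co (q.1.2⁻¹ * x))
      refine ⟨⟨q * ⟨(n', q.1.2⁻¹ * x), hn'.trans hn.symm⟩, mul_mem hq (hD ⟨hn', hco⟩)⟩, ?_⟩
      show q.1.2 * (q.1.2⁻¹ * x) = x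
      group
  exact ⟨(MulEquiv.ofBijective p1 b1).symm.trans (MulEquiv.ofBijective p2 b2)⟩

end Cfsg.Agent.FGS4.ModExt
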